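import Mathlib
import Cfsg.Agent.SylowTwoAb.Wreath

/-!
# Sylow 2-subgroups of symmetric groups of degree a power of two
-/

set_option autoImplicit false

namespace CfsgLib.AltSylowDecomp

open Equiv CfsgLib.SylowTwoAb

/-- The properties of the iterated wreath product of degree `2 ^ r`. -/
structure IsBlock (r : ℕ) {G : Type*} [Group G] (χ : G →* ℤˣ) : Prop where
  card : Nat.card G = 2 ^ (2 ^ r - 1)
  center_card : Nat.card (Subgroup.center G) = 2
  surj : Function.Surjective χ
  split : ∀ A B : Subgroup G, A.Normal → B.Normal → (∀ a ∈ A, ∀ b ∈ B, a * b = b * a) → A ⊔ B = ⊤ →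
    A ≤ Subgroup.center G ∨ B ≤ Subgroup.center G
  center_even : 2 ≤ r → Subgroup.center G ≤ χ.ker
  ker_center : 3 ≤ r → ∀ x ∈ χ.ker, (∀ y ∈ χ.ker, x * y = y * x) → x ∈ Subgroup.center G
  ker_sq : r = 2 → ∀ x ∈ χ.ker, x * x = 1

section step

variable (T : Type*) [Group T]

/-- The wreath product with the group of two elements. -/
abbrev Double := Wr T (⊤ : Subgroup (Perm (Fin 2)))

variable {T}

theorem double_mul_left (a b : Double T) (i : Fin 2) :
    (a * b).left i = a.left i * b.left (a.right.1⁻¹ i) := rfl

theorem double_inv_left (a : Double T) (i : Fin 2) : a⁻¹.left i = (a.left (a.right.1 i))⁻¹ := by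
  show (a.left ((a.right⁻¹).1⁻¹ i))⁻¹ = _
  rw [InvMemClass.coe_inv, inv_inv]

theorem perm_two (π : (⊤ : Subgroup (Perm (Fin 2)))) : π = 1 ∨ π.1 = Equiv.swap 0 1 := by
  have key : ∀ σ : Perm (Fin 2), σ = 1 ∨ σ = Equiv.swap 0 1 := by decide
  rcases key π.1 with h | h
  · exact Or.inl (Subtype.ext h)
  · exact Or.inr h

/-- Two coordinates. -/
def pair (a b : T) : Fin 2 → T := fun i => if i = 0 then a else b

omit [Group T] in
@[simp] theorem pair_zero (a b : T) : pair a b 0 = a := rfl
omit [Group T] in
@[simp] theorem pair_one (a b : T) : pair a b 1 = b := rfl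

/-- The commutator with an element of the first factor. -/
theorem comm_single {a : Double T} (ha : a.right.1 = Equiv.swap 0 1) (h : T) :
    a * SemidirectProduct.inl (pair h 1) * a⁻¹ * (SemidirectProduct.inl (pair h 1))⁻¹ =
      SemidirectProduct.inl (pair h⁻¹ (a.left 1 * h * (a.left 1)⁻¹)) := by
  refine SemidirectProduct.ext (funext fun i => ?_) (by simp)
  simp only [double_mul_left, double_inv_left, SemidirectProduct.mul_right, SemidirectProduct.inv_right,
    SemidirectProduct.right_inl, SemidirectProduct.left_inl, mul_one, mul_inv_cancel, inv_one,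
    OneMemClass.coe_one, Perm.one_apply, ha]
  fin_cases i <;> simp [Equiv.swap_apply_left, Equiv.swap_apply_right]

theorem center_double (hT : ∃ h : T, h ≠ 1) (x : Double T) :
    x ∈ Subgroup.center (Double T) ↔
      x.right = 1 ∧ x.left 0 ∈ Subgroup.center T ∧ x.left 1 = x.left 0 := by
  constructor
  · intro hx
    have hx' : ∀ g, g * x = x * g := Subgroup.mem_center_iff.1 hx
    have hr : x.right = 1 := by
      rcases perm_two x.right with h | h
      · exact h
      obtain ⟨e, he⟩ := hT
      have := congrArg (fun w : Double T => w.left 0) (comm_single h e)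
      rw [← hx' (SemidirectProduct.inl (pair e 1)), mul_inv_cancel_right, mul_inv_cancel] at this
      simp at this
      exact absurd this he
    have hc : ∀ h : T, h * x.left 0 = x.left 0 * h := fun h => by
      have := congrArg (fun w : Double T => w.left 0) (hx' (SemidirectProduct.inl (pair h 1)))
      simpa [double_mul_left, hr] using this
    refine ⟨hr, Subgroup.mem_center_iff.2 hc, ?_⟩
    have := congrArg (fun w : Double T => w.left 0)
      (hx' (SemidirectProduct.inr ⟨Equiv.swap 0 1, trivial⟩))
    simpa [double_mul_left, hr] using this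
  · rintro ⟨hr, hc, h01⟩
    refine Subgroup.mem_center_iff.2 fun g => SemidirectProduct.ext (funext fun i => ?_) (by simp [hr])
    have hall : ∀ j, x.left j = x.left 0 := fun j => by fin_cases j; exacts [rfl, h01]
    rw [double_mul_left, double_mul_left, hr, OneMemClass.coe_one, inv_one, Perm.one_apply, hall, hall i]
    exact Subgroup.mem_center_iff.1 hc _

theorem card_center_double (hT : ∃ h : T, h ≠ 1) :
    Nat.card (Subgroup.center (Double T)) = Nat.card (Subgroup.center T) :=
  Nat.card_congr
    { toFun := fun x => ⟨x.1.left 0, ((center_double hT x.1).1 x.2).2.1⟩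
      invFun := fun c => ⟨SemidirectProduct.inl fun _ => c.1,
        (center_double hT _).2 ⟨rfl, c.2, rfl⟩⟩
      left_inv := fun x => by
        obtain ⟨hr, -, h01⟩ := (center_double hT x.1).1 x.2
        refine Subtype.ext (SemidirectProduct.ext (funext fun j => ?_) hr.symm)
        show x.1.left 0 = x.1.left j
        fin_cases j
        exacts [rfl, h01.symm]
      right_inv := fun c => rfl }

theorem split_double (hT : ∃ h : T, h ≠ 1) (A B : Subgroup (Double T))
    (hA : A.Normal) (hB : B.Normal) (hc : ∀ a ∈ A, ∀ b ∈ B, a * b = b * a) (hs : A ⊔ B = ⊤) :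
    A ≤ Subgroup.center (Double T) ∨ B ≤ Subgroup.center (Double T) := by
  have main : ∀ A B : Subgroup (Double T), A.Normal → B.Normal →
      (∀ a ∈ A, ∀ b ∈ B, a * b = b * a) → A ⊔ B = ⊤ → (∃ a ∈ A, a.right ≠ 1) →
      B ≤ Subgroup.center (Double T) := by
    clear hA hB hc hs A B
    rintro A B hA hB hc hs ⟨a, ha, har⟩
    have hsw : a.right.1 = Equiv.swap 0 1 := (perm_two _).resolve_left har
    have hcA : ∀ h : T, SemidirectProduct.inl (pair h⁻¹ (a.left 1 * h * (a.left 1)⁻¹)) ∈ A := fun h => by
      rw [← comm_single hsw h]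
      have := mul_mem ha (hA.conj_mem _ (inv_mem ha) (SemidirectProduct.inl (pair h 1)))
      rwa [← mul_assoc, ← mul_assoc] at this
    have hbase : ∀ b ∈ B, b.right = 1 → b ∈ Subgroup.center (Double T) := by
      intro b hb hbr
      have h0 : ∀ h : T, h * b.left 0 = b.left 0 * h := fun h => by
        have := congrArg (fun w : Double T => w.left 0) (hc _ (hcA h⁻¹) b hb)
        simpa [double_mul_left, hbr] using this
      have h1 := congrArg (fun w : Double T => w.left 1) (hc a ha b hb)
      simp only [double_mul_left, hbr, hsw, OneMemClass.coe_one, inv_one, Perm.one_apply,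
        Equiv.swap_inv, Equiv.swap_apply_right] at h1
      rw [h0] at h1
      exact (center_double hT b).2 ⟨hbr, Subgroup.mem_center_iff.2 h0, (mul_right_cancel h1).symm⟩
    intro b hb
    refine Subgroup.mem_center_iff.2 fun g => ?_
    have hB' : B ≤ Subgroup.centralizer {b} := by
      intro c hcm
      refine Subgroup.mem_centralizer_singleton_iff.2 ?_
      rcases perm_two b.right with hb1 | hb1
      · exact Subgroup.mem_center_iff.1 (hbase b hb hb1) c
      rcases perm_two c.right with hc1 | hc1
      · exact (Subgroup.mem_center_iff.1 (hbase c hcm hc1) b).symm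
      have hr : (b⁻¹ * c).right = 1 := by
        have : b.right = c.right := Subtype.ext (hb1.trans hc1.symm)
        simp [this]
      have := Subgroup.mem_center_iff.1 (hbase _ (mul_mem (inv_mem hb) hcm) hr) b
      rw [mul_inv_cancel_left] at this
      calc c * b = b * (b⁻¹ * c) * b := by rw [mul_inv_cancel_left]
        _ = b * (b * (b⁻¹ * c)) := by
            rw [mul_assoc, ← Subgroup.mem_center_iff.1 (hbase _ (mul_mem (inv_mem hb) hcm) hr) b]
        _ = b * c := by rw [mul_inv_cancel_left]
    have hle : A ⊔ B ≤ Subgroup.centralizer {b} :=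
      sup_le (fun x hx => Subgroup.mem_centralizer_singleton_iff.2 (hc x hx b hb)) hB'
    exact Subgroup.mem_centralizer_singleton_iff.1 (hle (hs ▸ Subgroup.mem_top g))
  by_cases h : ∃ a ∈ A, a.right ≠ 1
  · exact Or.inr (main A B hA hB hc hs h)
  · left
    refine main B A hB hA (fun a ha b hb => (hc b hb a ha).symm) (sup_comm A B ▸ hs) ?_
    by_contra h'
    push Not at h h'
    have hle : A ⊔ B ≤ (SemidirectProduct.rightHom : Double T →* _).ker := sup_le h h'
    have := hle (hs ▸ Subgroup.mem_top
      (SemidirectProduct.inr ⟨Equiv.swap 0 1, trivial⟩ : Double T))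
    rw [MonoidHom.mem_ker, SemidirectProduct.rightHom_inr] at this
    exact absurd (congrArg (fun π : (⊤ : Subgroup (Perm (Fin 2))) => π.1 0) this) (by simp)

/-- The sign of a doubled element. -/
def doubleSign (χ : T →* ℤˣ) : Double T →* ℤˣ where
  toFun w := χ (w.left 0) * χ (w.left 1)
  map_one' := by simp
  map_mul' a b := by
    simp only [double_mul_left, map_mul]
    rcases perm_two a.right with h | h
    · rw [h, OneMemClass.coe_one, inv_one, Perm.one_apply, Perm.one_apply, mul_mul_mul_comm]
    · rw [h, Equiv.swap_inv, Equiv.swap_apply_left, Equiv.swap_apply_right,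
        mul_mul_mul_comm, mul_comm (χ (b.left 1))]

theorem doubleSign_apply (χ : T →* ℤˣ) (w : Double T) :
    doubleSign χ w = χ (w.left 0) * χ (w.left 1) := rfl

theorem isBlock_double {r : ℕ} (hr : 1 ≤ r) {χ : T →* ℤˣ} (h : IsBlock r χ) :
    IsBlock (r + 1) (doubleSign χ) := by
  have hT : ∃ t : T, t ≠ 1 := by
    obtain ⟨t, ht⟩ := h.surj (-1)
    exact ⟨t, fun h1 => by rw [h1, map_one] at ht; exact absurd ht (by decide)⟩
  have h2r : 2 ≤ 2 ^ r := Nat.le_self_pow (by omega) 2
  refine ⟨?_, ?_, fun u => ?_, split_double hT, fun _ x hx => ?_, fun hr3 x hx hcomm => ?_, fun hr2 x hx => ?_⟩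
  · rw [SemidirectProduct.card, Nat.card_fun, Nat.card_fin, h.card, ← pow_mul, Subgroup.card_top,
      Nat.card_perm, Nat.card_fin, Nat.factorial_two, ← pow_succ]
    congr 1
    rw [pow_succ]
    omega
  · rw [card_center_double hT, h.center_card]
  · obtain ⟨t, rfl⟩ := h.surj u
    exact ⟨SemidirectProduct.inl (pair t 1), by simp [doubleSign_apply]⟩
  · obtain ⟨-, -, h01⟩ := (center_double hT x).1 hx
    rw [MonoidHom.mem_ker, doubleSign_apply, h01, Int.units_mul_self]
  · have hcomm' : ∀ y ∈ (doubleSign χ).ker, x * y = y * x := hcomm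
    obtain ⟨e, he, he1⟩ : ∃ e ∈ χ.ker, e ≠ 1 := by
      have : Finite (Subgroup.center T) := Nat.finite_of_card_ne_zero (by rw [h.center_card]; norm_num)
      have : Nontrivial (Subgroup.center T) :=
        Finite.one_lt_card_iff_nontrivial.1 (by rw [h.center_card]; norm_num)
      obtain ⟨c, hc1⟩ := exists_ne (1 : Subgroup.center T)
      exact ⟨c.1, h.center_even (by omega) c.2, fun h' => hc1 (Subtype.ext h')⟩
    have hr1 : x.right = 1 := by
      rcases perm_two x.right with hp | hp
      · exact hp
      have := congrArg (fun w : Double T => w.left 0) (comm_single hp e)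
      have hm : SemidirectProduct.inl (pair e 1) ∈ (doubleSign χ).ker := by
        rw [MonoidHom.mem_ker, doubleSign_apply]
        simp [MonoidHom.mem_ker.1 he]
      rw [hcomm' _ hm, mul_inv_cancel_right, mul_inv_cancel] at this
      simp at this
      exact absurd this he1
    have hcen : ∀ i, x.left i ∈ Subgroup.center T := fun i => by
      refine Subgroup.mem_center_iff.2 fun t => ?_
      have hm : SemidirectProduct.inl (pair t t) ∈ (doubleSign χ).ker := by
        rw [MonoidHom.mem_ker, doubleSign_apply]
        simp [Int.units_mul_self]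
      have := congrArg (fun w : Double T => w.left i) (hcomm' _ hm)
      fin_cases i <;> simpa [double_mul_left, hr1] using this.symm
    refine (center_double hT x).2 ⟨hr1, hcen 0, ?_⟩
    have hm : SemidirectProduct.inr ⟨Equiv.swap 0 1, trivial⟩ ∈ (doubleSign χ).ker := by
      rw [MonoidHom.mem_ker, doubleSign_apply]
      simp
    have := congrArg (fun w : Double T => w.left 0) (hcomm' _ hm)
    simpa [double_mul_left, hr1] using this.symm
  · obtain rfl : r = 1 := by omega
    have : Finite T := Nat.finite_of_card_ne_zero (by rw [h.card]; norm_num)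
    have hinj : Function.Injective χ :=
      ((Nat.bijective_iff_surjective_and_card χ).2 ⟨h.surj, by
        rw [h.card, Nat.card_eq_fintype_card (α := ℤˣ), Fintype.card_units_int]; norm_num⟩).1
    have h01 : x.left 0 = x.left 1 := hinj (by
      rw [MonoidHom.mem_ker, doubleSign_apply] at hx
      rcases Int.units_eq_one_or (χ (x.left 0)) with a | a <;>
        rcases Int.units_eq_one_or (χ (x.left 1)) with b | b <;> simp_all)
    have hall : ∀ i, x.left i = x.left 0 := fun i => by fin_cases i; exacts [rfl, h01.symm]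
    refine SemidirectProduct.ext (funext fun i => hinj ?_) ?_
    · rw [double_mul_left, map_mul, hall i, hall (x.right.1⁻¹ i), Int.units_mul_self]
      simp
    · rcases perm_two x.right with hp | hp
      · simp [hp]
      · exact Subtype.ext (by simp [hp])

/-- The natural action of a doubled permutation group. -/
def doublePerm {α : Type*} (S : Subgroup (Perm α)) : Double S →* Perm (Fin 2 × α) where
  toFun w :=
    { toFun := fun p => (w.right.1 p.1, (w.left (w.right.1 p.1)).1 p.2)
      invFun := fun p => (w.right.1⁻¹ p.1, (w.left p.1).1⁻¹ p.2)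
      left_inv := fun p => by simp
      right_inv := fun p => by simp }
  map_one' := by ext p <;> simp
  map_mul' a b := by ext p <;> simp [double_mul_left]

theorem doublePerm_injective {α : Type*} [Nonempty α] (S : Subgroup (Perm α)) :
    Function.Injective (doublePerm S) := by
  rw [injective_iff_map_eq_one]
  intro w hw
  have h : ∀ p, (w.right.1 p.1, (w.left (w.right.1 p.1)).1 p.2) = p := fun p =>
    congrArg (fun e : Perm (Fin 2 × α) => e p) hw
  obtain ⟨a₀⟩ := ‹Nonempty α›
  have hr : w.right = 1 := Subtype.ext (Equiv.ext fun i => congrArg Prod.fst (h (i, a₀)))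
  refine SemidirectProduct.ext (funext fun i => Subtype.ext (Equiv.ext fun a => ?_)) hr
  have := congrArg Prod.snd (h (i, a))
  simpa [hr] using this

theorem sign_doublePerm {α : Type*} [Fintype α] [DecidableEq α] (hα : Even (Fintype.card α))
    (S : Subgroup (Perm α)) (w : Double S) :
    Perm.sign (doublePerm S w) = doubleSign (Perm.sign.comp S.subtype) w := by
  have e : doublePerm S w = Equiv.prodCongrRight (fun i => (w.left i).1) *
      Equiv.prodCongrLeft (fun _ : α => w.right.1) := by
    ext p <;> simp [doublePerm, Equiv.prodCongrRight, Equiv.prodCongrLeft]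
  rw [e, map_mul, Perm.sign_prodCongrRight, Perm.sign_prodCongrLeft, Fin.prod_univ_two,
    Finset.prod_const, Finset.card_univ]
  rcases Int.units_eq_one_or (Perm.sign w.right.1) with a | a <;>
    simp [a, doubleSign_apply, hα.neg_one_pow]

end step

section transport

variable {G H : Type*} [Group G] [Group H]

theorem IsBlock.congr {r : ℕ} {χ : G →* ℤˣ} (h : IsBlock r χ) (e : G ≃* H) (ψ : H →* ℤˣ)
    (hψ : ∀ g, ψ (e g) = χ g) : IsBlock r ψ := by
  have hcen : ∀ g, e g ∈ Subgroup.center H ↔ g ∈ Subgroup.center G := fun g => by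
    simp only [Subgroup.mem_center_iff]
    constructor
    · intro hg x
      exact e.injective (by rw [map_mul, map_mul, hg (e x)])
    · intro hg y
      obtain ⟨x, rfl⟩ := e.surjective y
      rw [← map_mul, hg x, map_mul]
  have hker : ∀ g, e g ∈ ψ.ker ↔ g ∈ χ.ker := fun g => by simp [MonoidHom.mem_ker, hψ]
  refine ⟨?_, ?_, fun u => ?_, fun A B hA hB hc hs => ?_, fun hr y hy => ?_, fun hr y hy hcm => ?_,
    fun hr y hy => ?_⟩
  · rw [← Nat.card_congr e.toEquiv, h.card]
  · rw [← h.center_card]
    exact (Nat.card_congr (e.toEquiv.subtypeEquiv fun g => (hcen g).symm)).symm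
  · obtain ⟨g, rfl⟩ := h.surj u
    exact ⟨e g, hψ g⟩
  · have := h.split (A.comap e.toMonoidHom) (B.comap e.toMonoidHom) (hA.comap _) (hB.comap _)
      (fun a ha b hb => e.injective (by rw [map_mul, map_mul]; exact hc _ ha _ hb))
      (by rw [Subgroup.comap_sup_eq _ _ _ e.surjective, hs, Subgroup.comap_top])
    rcases this with h1 | h1
    · left; intro y hy; obtain ⟨x, rfl⟩ := e.surjective y; exact (hcen x).2 (h1 hy)
    · right; intro y hy; obtain ⟨x, rfl⟩ := e.surjective y; exact (hcen x).2 (h1 hy)
  · obtain ⟨x, rfl⟩ := e.surjective y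
    exact (hker x).2 (h.center_even hr ((hcen x).1 hy))
  · obtain ⟨x, rfl⟩ := e.surjective y
    exact (hcen x).2 (h.ker_center hr x ((hker x).1 hy) fun z hz => e.injective (by
      rw [map_mul, map_mul]; exact hcm _ ((hker z).2 hz)))
  · obtain ⟨x, rfl⟩ := e.surjective y
    rw [← map_mul, h.ker_sq hr x ((hker x).1 hy), map_one]

end transport

theorem exists_block : ∀ r : ℕ, 1 ≤ r →
    ∃ S : Subgroup (Perm (Fin (2 ^ r))), IsBlock r (Perm.sign.comp S.subtype) := by
  intro r hr
  induction r, hr using Nat.le_induction with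
  | base =>
    refine ⟨⊤, ?_⟩
    have hcomm : ∀ a b : (⊤ : Subgroup (Perm (Fin (2 ^ 1)))), a * b = b * a := fun a b => by
      have key : ∀ σ τ : Perm (Fin 2), σ * τ = τ * σ := by decide
      exact Subtype.ext (key a.1 b.1)
    have hc : Subgroup.center (⊤ : Subgroup (Perm (Fin (2 ^ 1)))) = ⊤ :=
      eq_top_iff.2 fun x _ => Subgroup.mem_center_iff.2 fun y => hcomm y x
    refine ⟨?_, ?_, fun u => ?_, fun A B _ _ _ _ => Or.inl (hc ▸ le_top), fun h => absurd h (by omega),
      fun h => absurd h (by omega), fun h => absurd h (by omega)⟩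
    · rw [Subgroup.card_top, Nat.card_perm, Nat.card_fin]; rfl
    · rw [hc, Subgroup.card_top, Subgroup.card_top, Nat.card_perm, Nat.card_fin]; rfl
    · obtain ⟨σ, hσ⟩ := Perm.sign_surjective (Fin (2 ^ 1)) u
      exact ⟨⟨σ, trivial⟩, hσ⟩
  | succ r hr ih =>
    obtain ⟨S, hS⟩ := ih
    let eq : Fin 2 × Fin (2 ^ r) ≃ Fin (2 ^ (r + 1)) :=
      finProdFinEquiv.trans (finCongr (by rw [pow_succ, mul_comm]))
    let f : Double S →* Perm (Fin (2 ^ (r + 1))) := eq.permCongrHom.toMonoidHom.comp (doublePerm S)
    have hf : Function.Injective f := eq.permCongrHom.injective.comp (doublePerm_injective S)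
    refine ⟨f.range, (isBlock_double hr hS).congr (MonoidHom.ofInjective hf) _ fun w => ?_⟩
    show Perm.sign (f w) = _
    rw [← sign_doublePerm (by simp [Nat.even_pow]; omega) S w]
    exact Perm.sign_permCongr eq _

end CfsgLib.AltSylowDecomp
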