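import Cfsg.Agent.AltSylowDecomp.Product
import Cfsg.Prelude.Def_TwoFusion

/-!
# Decomposability of Sylow 2-subgroups of alternating groups
-/

set_option autoImplicit false

namespace CfsgLib.AltSylowDecomp

open Equiv

theorem val_factorial_add_length (n : ℕ) :
    padicValNat 2 n.factorial + n.bitIndices.length = n := by
  have : Fact (Nat.Prime 2) := ⟨Nat.prime_two⟩
  induction n using Nat.strong_induction_on with
  | _ n ih =>
    rcases Nat.eq_zero_or_pos n with rfl | hn
    · simp
    have hk := ih (n / 2) (by omega)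
    rcases Nat.mod_two_eq_zero_or_one n with h | h
    · rw [show n = 2 * (n / 2) by omega, padicValNat_factorial_mul, Nat.bitIndices_two_mul,
        List.length_map]
      omega
    · rw [show n = 2 * (n / 2) + 1 by omega, padicValNat_factorial_mul_add _ (by norm_num : 1 < 2),
        padicValNat_factorial_mul, Nat.bitIndices_two_mul_add_one, List.length_cons, List.length_map]
      omega

theorem internal_iff_dec {G : Type*} [Group G] (P : Subgroup G) :
    (∃ S₁ S₂ : Subgroup G, S₁ ≠ ⊥ ∧ S₂ ≠ ⊥ ∧ Cfsg.IsInternalDirectProduct S₁ S₂ P) ↔ Dec P := by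
  constructor
  · rintro ⟨S₁, S₂, h1, h2, hl1, hl2, hc, hi, hs⟩
    refine ⟨S₁.subgroupOf P, S₂.subgroupOf P, ?_, ?_,
      fun a ha b hb => Subtype.ext (hc _ ha _ hb), ?_, ?_⟩
    · exact fun h => h1 (by rwa [Subgroup.subgroupOf_eq_bot, disjoint_iff, inf_eq_left.2 hl1] at h)
    · exact fun h => h2 (by rwa [Subgroup.subgroupOf_eq_bot, disjoint_iff, inf_eq_left.2 hl2] at h)
    · refine (Subgroup.eq_bot_iff_forall _).2 fun x hx => Subtype.ext ?_
      exact (Subgroup.eq_bot_iff_forall _).1 hi x.1 hx
    · rw [← Subgroup.subgroupOf_sup hl1 hl2, hs, Subgroup.subgroupOf_self]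
  · rintro ⟨A, B, hA, hB, hc, hi, hs⟩
    refine ⟨A.map P.subtype, B.map P.subtype, ?_, ?_, Subgroup.map_subtype_le _,
      Subgroup.map_subtype_le _, ?_, ?_, ?_⟩
    · rwa [ne_eq, Subgroup.map_eq_bot_iff_of_injective _ P.subtype_injective]
    · rwa [ne_eq, Subgroup.map_eq_bot_iff_of_injective _ P.subtype_injective]
    · rintro _ ⟨a, ha, rfl⟩ _ ⟨b, hb, rfl⟩
      rw [← map_mul, ← map_mul, hc a ha b hb]
    · rw [← Subgroup.map_inf _ _ _ P.subtype_injective, hi, Subgroup.map_bot]
    · rw [← Subgroup.map_sup, hs, ← MonoidHom.range_eq_map, Subgroup.range_subtype]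

theorem dec_sylow_iff {G H : Type*} [Group G] [Group H] [Finite G] (f : H →* G)
    (hf : Function.Injective f) (hcard : Nat.card H = 2 ^ (Nat.card G).factorization 2) (P : Sylow 2 G) :
    (∃ S₁ S₂ : Subgroup G, S₁ ≠ ⊥ ∧ S₂ ≠ ⊥ ∧ Cfsg.IsInternalDirectProduct S₁ S₂ (P : Subgroup G)) ↔
      Dec H := by
  have : Fact (Nat.Prime 2) := ⟨Nat.prime_two⟩
  let R : Sylow 2 G := Sylow.ofCard f.range
    (by rw [← Nat.card_congr (MonoidHom.ofInjective hf).toEquiv, hcard])
  let e : H ≃* (P : Subgroup G) := (MonoidHom.ofInjective hf).trans (Sylow.equiv R P)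
  rw [internal_iff_dec]
  exact ⟨dec_congr e.symm, dec_congr e⟩

theorem sigmaCongrRight_sign {m : ℕ} {β : Fin m → Type*}
    [∀ i, Fintype (β i)] [∀ i, DecidableEq (β i)] (g : ∀ i, Perm (β i)) :
    Perm.sign (Perm.sigmaCongrRightHom β g) = ∏ i, Perm.sign (g i) := by
  have key : (Perm.sign).comp (Perm.sigmaCongrRightHom β) =
      prodSign (W := fun i => Perm (β i)) (fun i => Perm.sign) := by
    refine MonoidHom.ext fun g => Subgroup.pi_mem_of_mulSingle_mem
      (H := MonoidHom.eqLocus _ _) g fun j => ?_
    show Perm.sign.comp (Perm.sigmaCongrRightHom β) (Pi.mulSingle j (g j)) = _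
    generalize g j = σ
    rw [prodSign_mulSingle, MonoidHom.comp_apply]
    induction σ using Perm.swap_induction_on with
    | one => simp
    | swap_mul f x y hxy ih =>
      rw [Pi.mulSingle_mul, map_mul, map_mul, ih, map_mul, Perm.sign_swap hxy]
      congr 1
      have e : Perm.sigmaCongrRightHom β (Pi.mulSingle j (Equiv.swap x y)) =
          Equiv.swap (⟨j, x⟩ : Σ i, β i) ⟨j, y⟩ := by
        ext1 ⟨i, z⟩
        show (⟨i, (Pi.mulSingle j (Equiv.swap x y) : ∀ i, Perm (β i)) i z⟩ : Σ i, β i) = _
        rcases eq_or_ne i j with rfl | hij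
        · rw [Pi.mulSingle_eq_same]
          simp only [Equiv.swap_apply_def, Sigma.mk.inj_iff, heq_eq_eq, true_and]
          split_ifs <;> rfl
        · rw [Pi.mulSingle_eq_of_ne hij, Equiv.swap_apply_of_ne_of_ne] <;> simp [hij]
      rw [e, Perm.sign_swap]
      simp [hxy]
  have h := DFunLike.congr_fun key g
  rwa [MonoidHom.comp_apply, prodSign_apply] at h

/-- The transposition of the last two points for the odd elements. -/
def signSwap : ℤˣ →* Perm (Fin 2) where
  toFun u := if u = 1 then 1 else Equiv.swap 0 1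
  map_one' := rfl
  map_mul' := by decide

theorem sign_signSwap (u : ℤˣ) : Perm.sign (signSwap u) = u := by
  rcases Int.units_eq_one_or u with rfl | rfl <;> decide

theorem main (n : ℕ) (hn : 4 ≤ n) (P : Sylow 2 (alternatingGroup (Fin n))) :
    (∃ S₁ S₂ : Subgroup (alternatingGroup (Fin n)), S₁ ≠ ⊥ ∧ S₂ ≠ ⊥ ∧
        Cfsg.IsInternalDirectProduct S₁ S₂ (P : Subgroup (alternatingGroup (Fin n)))) ↔
      (n = 4 ∨ n = 5 ∨ ((n % 4 = 2 ∨ n % 4 = 3) ∧ ∀ r : ℕ, 4 * (n / 4) ≠ 2 ^ r)) := by
  classical
  have : Fact (Nat.Prime 2) := ⟨Nat.prime_two⟩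
  have : Nontrivial (Fin n) := Fin.nontrivial_iff_two_le.2 (by omega)
  obtain ⟨k, e, he, rfl⟩ : ∃ k e, e < 4 ∧ n = 4 * k + e := ⟨n / 4, n % 4, by omega, by omega⟩
  have hdiv : (4 * k + e) / 4 = k := by omega
  have hmod : (4 * k + e) % 4 = e := by omega
  rw [hdiv, hmod]
  let L := (4 * k).bitIndices
  let s := L.length
  let r : Fin s → ℕ := fun j => L[j.1]
  have hL : L = k.bitIndices.map (· + 2) := Nat.bitIndices_two_pow_mul 2 k
  have hr : ∀ j, 2 ≤ r j := fun j => by
    have hm : r j ∈ L := List.getElem_mem j.2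
    rw [hL, List.mem_map] at hm
    obtain ⟨a, -, ha⟩ := hm
    omega
  have hsum : ∑ j, 2 ^ r j = 4 * k := by
    rw [Fin.sum_univ_fun_getElem L (fun i => 2 ^ i)]
    exact Nat.sum_map_two_pow_bitIndices _
  have hs1 : 1 ≤ s := by
    by_contra h
    have h0 : s = 0 := by omega
    have : IsEmpty (Fin s) := h0 ▸ Fin.isEmpty'
    rw [Finset.univ_eq_empty, Finset.sum_empty] at hsum
    omega
  choose T hT using fun j : Fin s => exists_block (r j) (le_trans one_le_two (hr j))
  let χ : ∀ j, T j →* ℤˣ := fun j => Perm.sign.comp (T j).subtype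
  let eqv : (Σ j : Fin s, Fin (2 ^ r j)) ≃ Fin (4 * k) := finSigmaFinEquiv.trans (finCongr hsum)
  let E : (∀ j, T j) →* Perm (Fin (4 * k)) :=
    eqv.permCongrHom.toMonoidHom.comp ((Perm.sigmaCongrRightHom fun j => Fin (2 ^ r j)).comp
      (MonoidHom.piMap fun j => (T j).subtype))
  have hEinj : Function.Injective E := by
    refine eqv.permCongrHom.injective.comp (Perm.sigmaCongrRightHom_injective.comp ?_)
    intro a b h
    exact funext fun j => Subtype.ext (congrFun h j)
  have hEsign : ∀ x, Perm.sign (E x) = prodSign χ x := fun x => by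
    rw [prodSign_apply]
    show Perm.sign (eqv.permCongr _) = _
    rw [Perm.sign_permCongr]
    exact sigmaCongrRight_sign _
  have hcardW : Nat.card (∀ j, T j) = 2 ^ padicValNat 2 (4 * k).factorial := by
    rw [Nat.card_pi]
    simp_rw [fun j => (hT j).card]
    rw [Finset.prod_pow_eq_pow_sum]
    congr 1
    have h := val_factorial_add_length (4 * k)
    have hs : s = (4 * k).bitIndices.length := rfl
    have h' : ∑ j, (2 ^ r j - 1) + s = 4 * k := by
      have hsc : ∑ _j : Fin s, 1 = s := by simp
      conv_lhs => arg 2; rw [← hsc]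
      rw [← Finset.sum_add_distrib, ← hsum]
      exact Finset.sum_congr rfl fun j _ => Nat.sub_add_cancel Nat.one_le_two_pow
    omega
  have hsurj : Function.Surjective (prodSign χ) := fun u => by
    obtain ⟨t, rfl⟩ := (hT ⟨0, hs1⟩).surj u
    exact ⟨Pi.mulSingle ⟨0, hs1⟩ t, prodSign_mulSingle (χ := χ) _ t⟩
  have hfin : Finite (∀ j, T j) := inferInstance
  have hcardK : 2 * Nat.card (prodSign χ).ker = Nat.card (∀ j, T j) := by
    have h := (prodSign χ).ker.card_mul_index
    rw [Subgroup.index_ker, MonoidHom.range_eq_top.2 hsurj, Subgroup.card_top,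
      Nat.card_eq_fintype_card (α := ℤˣ), Fintype.card_units_int] at h
    omega
  have hA : (Nat.card (alternatingGroup (Fin (4 * k + e)))).factorization 2 + 1 =
      padicValNat 2 (4 * k + e).factorial := by
    have h := two_mul_nat_card_alternatingGroup (α := Fin (4 * k + e))
    rw [Nat.card_perm, Nat.card_fin] at h
    rw [← h, padicValNat.mul two_ne_zero Nat.card_pos.ne', padicValNat.self one_lt_two,
      Nat.factorization_def _ Nat.prime_two, add_comm]
  have hiff1 : s = 1 ↔ ∃ r, 4 * k = 2 ^ r := by
    constructor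
    · intro h
      refine ⟨r ⟨0, hs1⟩, ?_⟩
      rw [← hsum]
      exact Finset.sum_eq_single _ (fun j _ hj => absurd (Fin.ext (by
        have := j.2
        show j.1 = 0
        omega)) hj) (fun h => absurd (Finset.mem_univ _) h)
    · rintro ⟨a, ha⟩
      show ((4 * k).bitIndices).length = 1
      rw [ha, Nat.bitIndices_two_pow]; rfl
  rcases Nat.lt_or_ge e 2 with he2 | he2
  · -- the sign kernel
    let em : Fin (4 * k) ↪ Fin (4 * k + e) := Fin.castLEEmb (by omega)
    let f : (prodSign χ).ker →* alternatingGroup (Fin (4 * k + e)) :=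
      ((Perm.viaEmbeddingHom em).comp (E.comp (prodSign χ).ker.subtype)).codRestrict _ fun x => by
        show Perm.sign (Perm.viaEmbedding (E x.1) em) = 1
        rw [Perm.viaEmbedding, Perm.sign_extendDomain, hEsign]
        exact x.2
    have hf : Function.Injective f := fun a b h => Subtype.ext (hEinj
      (Perm.viaEmbeddingHom_injective em (congrArg Subtype.val h)))
    rw [dec_sylow_iff f hf ?_ P]
    · constructor
      · intro hdec
        by_contra hne
        push Not at hne
        have hk2 : 2 ≤ k := by omega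
        rcases Nat.lt_or_ge s 2 with h | h
        · refine not_dec_prod_one hT (fun j => ?_) (by omega) hdec
          by_contra hj
          have hj2 : r j = 2 := by have := hr j; omega
          rw [Finset.sum_eq_single j (fun i _ hi => absurd (Fin.ext (by
            have := i.2; have := j.2; omega)) hi) (fun h' => absurd (Finset.mem_univ j) h'), hj2] at hsum
          omega
        · exact not_dec_prod hT hr h hdec
      · intro h
        have hk1 : k = 1 := by omega
        have hs : s = 1 := hiff1.2 ⟨2, by omega⟩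
        refine dec_prod_two hT hs fun j => ?_
        have h2 := hsum
        rw [Finset.sum_eq_single j (fun i _ hi => absurd (Fin.ext (by
            have := i.2; have := j.2; omega)) hi) (fun h' => absurd (Finset.mem_univ j) h'), hk1] at h2
        exact Nat.pow_right_injective le_rfl (h2.trans (by norm_num : 4 * 1 = 2 ^ 2))
    · have h1 : padicValNat 2 (4 * k + e).factorial = padicValNat 2 (4 * k).factorial := by
        interval_cases e
        · rfl
        · rw [show 4 * k + 1 = 2 * (2 * k) + 1 by ring, padicValNat_factorial_mul_add _ (by norm_num : 1 < 2),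
            show 2 * (2 * k) = 4 * k by ring]
      rw [hcardW, ← h1, ← hA, pow_succ] at hcardK
      omega
  · -- the sign is repaired on two further points
    let em : Fin (4 * k) ⊕ Fin 2 ↪ Fin (4 * k + e) :=
      finSumFinEquiv.toEmbedding.trans (Fin.castLEEmb (by omega))
    let f : (∀ j, T j) →* alternatingGroup (Fin (4 * k + e)) :=
      ((Perm.viaEmbeddingHom em).comp ((Perm.sumCongrHom _ _).comp
        (E.prod (signSwap.comp (prodSign χ))))).codRestrict _ fun x => by
        show Perm.sign (Perm.viaEmbedding _ em) = 1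
        rw [Perm.viaEmbedding, Perm.sign_extendDomain]
        show Perm.sign (Equiv.sumCongr (E x) (signSwap (prodSign χ x))) = 1
        rw [Perm.sign_sumCongr, hEsign, sign_signSwap, Int.units_mul_self]
    have hf : Function.Injective f := fun a b h => hEinj (congrArg Prod.fst
      (Perm.sumCongrHom_injective (Perm.viaEmbeddingHom_injective em (congrArg Subtype.val h))))
    rw [dec_sylow_iff f hf ?_ P]
    · constructor
      · intro hdec
        refine Or.inr (Or.inr ⟨by omega, fun a ha => ?_⟩)
        exact not_dec_pi_one hT (hiff1.2 ⟨a, ha⟩) hdec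
      · rintro (h | h | ⟨-, h⟩)
        · omega
        · omega
        · refine dec_pi hT ?_
          have : s ≠ 1 := fun hs => by
            obtain ⟨a, ha⟩ := hiff1.1 hs
            exact h a ha
          omega
    · have h1 : padicValNat 2 (4 * k + e).factorial = padicValNat 2 (4 * k).factorial + 1 := by
        have h2 := val_factorial_add_length (4 * k + e)
        have h4 := val_factorial_add_length (4 * k)
        have h5 : (4 * k + e).bitIndices.length + 1 = (4 * k).bitIndices.length + e := by
          rw [show 4 * k = 2 * (2 * k) by ring]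
          interval_cases e
          · rw [show 2 * (2 * k) + 2 = 2 * (2 * k + 1) by ring]
            simp
          · rw [show 2 * (2 * k) + 3 = 2 * (2 * k + 1) + 1 by ring]
            simp
        omega
      rw [hcardW]
      congr 1
      omega

end CfsgLib.AltSylowDecomp
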