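import Cfsg.Agent.AltSylowDecomp.Blocks
import Cfsg.Agent.BlocksCharsC.PGroupCenter

/-!
# Direct decompositions of sign kernels in products of wreath products
-/

set_option autoImplicit false

namespace CfsgLib.AltSylowDecomp

open scoped commutatorElement

/-- The group is a direct product of two nontrivial subgroups. -/
def Dec (G : Type*) [Group G] : Prop :=
  ∃ A B : Subgroup G, A ≠ ⊥ ∧ B ≠ ⊥ ∧ (∀ a ∈ A, ∀ b ∈ B, a * b = b * a) ∧ A ⊓ B = ⊥ ∧ A ⊔ B = ⊤

theorem dec_congr {G H : Type*} [Group G] [Group H] (e : G ≃* H) (h : Dec G) : Dec H := by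
  obtain ⟨A, B, hA, hB, hc, hi, hs⟩ := h
  refine ⟨A.map e.toMonoidHom, B.map e.toMonoidHom, ?_, ?_, ?_, ?_, ?_⟩
  · rwa [ne_eq, Subgroup.map_eq_bot_iff_of_injective _ e.injective]
  · rwa [ne_eq, Subgroup.map_eq_bot_iff_of_injective _ e.injective]
  · rintro _ ⟨a, ha, rfl⟩ _ ⟨b, hb, rfl⟩
    show e a * e b = e b * e a
    rw [← map_mul, ← map_mul, hc a ha b hb]
  · rw [← Subgroup.map_inf _ _ _ e.injective, hi, Subgroup.map_bot]
  · rw [← Subgroup.map_sup, hs, Subgroup.map_top_of_surjective _ e.surjective]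

theorem normal_of_factor {G : Type*} [Group G] {A B : Subgroup G}
    (hc : ∀ a ∈ A, ∀ b ∈ B, a * b = b * a) (hs : A ⊔ B = ⊤) : A.Normal := by
  have h : A ⊔ B ≤ Subgroup.normalizer (A : Set G) := by
    refine sup_le Subgroup.le_normalizer fun b hb => ?_
    refine Subgroup.mem_normalizer_iff.2 fun a => ⟨fun ha => ?_, fun ha => ?_⟩
    · rwa [← hc a ha b hb, mul_inv_cancel_right]
    · have h2 := hc _ ha b hb
      rw [inv_mul_cancel_right] at h2
      exact (mul_left_cancel h2) ▸ ha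
  exact Subgroup.normalizer_eq_top_iff.1 (eq_top_iff.2 (hs ▸ h))

theorem exists_mul_of_factor {G : Type*} [Group G] {A B : Subgroup G}
    (hc : ∀ a ∈ A, ∀ b ∈ B, a * b = b * a) (hs : A ⊔ B = ⊤) (g : G) :
    ∃ a ∈ A, ∃ b ∈ B, a * b = g := by
  have := normal_of_factor hc hs
  have hg : g ∈ A ⊔ B := hs ▸ Subgroup.mem_top g
  exact Subgroup.mem_sup_of_normal_left.1 hg

/-- A nontrivial normal subgroup of a 2-group with center of order 2 contains the center. -/
theorem center_le_normal {G : Type*} [Group G] [Finite G] (hp : IsPGroup 2 G)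
    (hc : Nat.card (Subgroup.center G) = 2) (N : Subgroup G) [N.Normal] (hN : N ≠ ⊥) :
    Subgroup.center G ≤ N := by
  have : Fact (Nat.Prime 2) := ⟨Nat.prime_two⟩
  obtain ⟨x, hx, hxN⟩ : ∃ x ∈ N ⊓ Subgroup.center G, x ≠ 1 := by
    have : Nontrivial N := (Subgroup.nontrivial_iff_ne_bot _).2 hN
    have h := CfsgLib.BlocksCharsC.inf_center_ne_bot hp N
    by_contra h'
    push Not at h'
    exact h ((Subgroup.eq_bot_iff_forall _).2 h')
  have hz : Subgroup.zpowers x = Subgroup.center G := by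
    refine Subgroup.eq_of_le_of_card_ge (Subgroup.zpowers_le.2 hx.2) ?_
    rw [hc, Nat.card_zpowers]
    exact (Nat.two_le_iff _).2 ⟨(orderOf_pos x).ne', mt orderOf_eq_one_iff.1 hxN⟩
  exact hz ▸ Subgroup.zpowers_le.2 hx.1

theorem not_dec_of_center {G : Type*} [Group G] [Finite G] (hp : IsPGroup 2 G)
    (hc : Nat.card (Subgroup.center G) = 2) : ¬ Dec G := by
  rintro ⟨A, B, hA, hB, hcm, hi, hs⟩
  have hnA := normal_of_factor hcm hs
  have hnB := normal_of_factor (fun b hb a ha => (hcm a ha b hb).symm) (sup_comm A B ▸ hs)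
  have h := le_inf (center_le_normal hp hc A hA) (center_le_normal hp hc B hB)
  rw [hi, le_bot_iff] at h
  rw [h, Subgroup.card_bot] at hc
  omega

section product

variable {s : ℕ} {W : Fin s → Type*} [∀ j, Group (W j)] {r : Fin s → ℕ} {χ : ∀ j, W j →* ℤˣ}

/-- The product of the signs. -/
def prodSign (χ : ∀ j, W j →* ℤˣ) : (∀ j, W j) →* ℤˣ :=
  ∏ j, (χ j).comp (Pi.evalMonoidHom W j)

theorem prodSign_apply (χ : ∀ j, W j →* ℤˣ) (x : ∀ j, W j) :
    prodSign χ x = ∏ j, χ j (x j) := by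
  simp [prodSign]

theorem prodSign_mulSingle (j : Fin s) (t : W j) : prodSign χ (Pi.mulSingle j t) = χ j t := by
  rw [prodSign_apply, Finset.prod_eq_single j (fun k _ hk => by simp [Pi.mulSingle_eq_of_ne hk])
    (fun h => absurd (Finset.mem_univ j) h), Pi.mulSingle_eq_same]

theorem isPGroup_pi (hb : ∀ j, IsBlock (r j) (χ j)) : IsPGroup 2 (∀ j, W j) := by
  refine IsPGroup.of_card (n := ∑ j, (2 ^ r j - 1)) ?_
  rw [Nat.card_pi, ← Finset.prod_pow_eq_pow_sum]
  exact Finset.prod_congr rfl fun j _ => (hb j).card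

theorem not_dec_prod_one (hb : ∀ j, IsBlock (r j) (χ j)) (hr : ∀ j, 3 ≤ r j) (hs : s = 1) :
    ¬ Dec (prodSign χ).ker := by
  subst hs
  have hfin : Finite (∀ j, W j) := Nat.finite_of_card_ne_zero (by
    rw [Nat.card_pi]; exact Finset.prod_ne_zero_iff.2 fun j _ => by rw [(hb j).card]; simp)
  refine not_dec_of_center ((isPGroup_pi hb).to_subgroup _) ?_
  have hker : ∀ x : ∀ j, W j, x ∈ (prodSign χ).ker ↔ x 0 ∈ (χ 0).ker := fun x => by
    simp [MonoidHom.mem_ker, prodSign_apply, Fin.prod_univ_one]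
  rw [← (hb 0).center_card]
  refine Nat.card_congr
    { toFun := fun x => ⟨x.1.1 0, (hb 0).ker_center (hr 0) _ ((hker _).1 x.1.2) fun y hy => ?_⟩
      invFun := fun c => ⟨⟨Pi.mulSingle 0 c.1, (hker _).2 (by
          simpa using (hb 0).center_even (le_trans (by norm_num) (hr 0)) c.2)⟩, ?_⟩
      left_inv := fun x => ?_
      right_inv := fun c => Subtype.ext (by simp) }
  · have hm : Pi.mulSingle 0 y ∈ (prodSign χ).ker := (hker _).2 (by simpa using hy)
    have := congrArg (fun w : (prodSign χ).ker => w.1 0) (Subgroup.mem_center_iff.1 x.2 ⟨_, hm⟩)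
    simpa using this.symm
  · refine Subgroup.mem_center_iff.2 fun g => Subtype.ext (funext fun j => ?_)
    obtain rfl := Subsingleton.elim j 0
    simpa using Subgroup.mem_center_iff.1 c.2 (g.1 0)
  · refine Subtype.ext (Subtype.ext (funext fun j => ?_))
    obtain rfl := Subsingleton.elim j 0
    simp

theorem not_dec_prod (hbl : ∀ j, IsBlock (r j) (χ j)) (hr : ∀ j, 2 ≤ r j) (hs : 2 ≤ s) :
    ¬ Dec (prodSign χ).ker := by
  have hf : ∀ j, Finite (W j) := fun j => Nat.finite_of_card_ne_zero (by rw [(hbl j).card]; simp)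
  have hp : ∀ j, IsPGroup 2 (W j) := fun j => IsPGroup.of_card (hbl j).card
  rintro ⟨A, B, hA, hB, hc, hi, hsup⟩
  let π : ∀ j, (prodSign χ).ker →* W j := fun j =>
    (Pi.evalMonoidHom W j).comp (prodSign χ).ker.subtype
  have hπs : ∀ j, Function.Surjective (π j) := by
    intro j t
    obtain ⟨k, hk⟩ : ∃ k : Fin s, k ≠ j := by
      by_cases h0 : j.1 = 0
      · exact ⟨⟨1, by omega⟩, fun h => by have := congrArg Fin.val h; simp [h0] at this⟩
      · exact ⟨⟨0, by omega⟩, fun h => h0 (congrArg Fin.val h).symm⟩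
    obtain ⟨u, hu⟩ := (hbl k).surj (χ j t)
    refine ⟨⟨Pi.mulSingle j t * Pi.mulSingle k u, ?_⟩, ?_⟩
    · rw [MonoidHom.mem_ker, map_mul, prodSign_mulSingle, prodSign_mulSingle, hu, Int.units_mul_self]
    · show (Pi.mulSingle j t * Pi.mulSingle k u : ∀ i, W i) j = t
      simp [Pi.mulSingle_eq_of_ne hk.symm]
  have key : ∀ A B : Subgroup (prodSign χ).ker, (∀ a ∈ A, ∀ b ∈ B, a * b = b * a) → A ⊔ B = ⊤ →
      A ⊓ B = ⊥ → (∀ j, B.map (π j) ≤ Subgroup.center (W j)) → B = ⊥ := by
    clear hA hB hc hi hsup A B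
    intro A B hc hsup hi hcen
    have hZ : ∀ b ∈ B, ∀ g, g * b = b * g := fun b hb g => Subtype.ext (funext fun j =>
      Subgroup.mem_center_iff.1 (hcen j (Subgroup.mem_map_of_mem (π j) hb)) (g.1 j))
    have hcomm : ∀ x y : (prodSign χ).ker, ⁅x, y⁆ ∈ A := by
      intro x y
      obtain ⟨a, ha, b, hb, rfl⟩ := exists_mul_of_factor hc hsup x
      obtain ⟨a', ha', b', hb', rfl⟩ := exists_mul_of_factor hc hsup y
      have e1 : ⁅a * b, a' * b'⁆ = ⁅a, a'⁆ := by
        have c1 : Commute b (a' * b') := (hZ b hb _).symm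
        have c2 : Commute b' a := (hZ b' hb' _).symm
        calc ⁅a * b, a' * b'⁆
            = a * (b * (a' * b')) * b⁻¹ * a⁻¹ * b'⁻¹ * a'⁻¹ := by rw [commutatorElement_def]; group
          _ = a * (a' * b' * b) * b⁻¹ * a⁻¹ * b'⁻¹ * a'⁻¹ := by rw [c1.eq]
          _ = a * a' * (b' * a⁻¹) * b'⁻¹ * a'⁻¹ := by group
          _ = a * a' * (a⁻¹ * b') * b'⁻¹ * a'⁻¹ := by rw [c2.inv_right.eq]
          _ = ⁅a, a'⁆ := by rw [commutatorElement_def]; group
      rw [e1]
      exact mul_mem (mul_mem (mul_mem ha ha') (inv_mem ha)) (inv_mem ha')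
    refine (Subgroup.eq_bot_iff_forall _).2 fun b hb => ?_
    have hmem : b ∈ A := by
      have hj : ∀ j, Pi.mulSingle j (b.1 j) ∈ A.map (prodSign χ).ker.subtype := by
        intro j
        let K : Subgroup (W j) := (A.map (prodSign χ).ker.subtype).comap (MonoidHom.mulSingle W j)
        let M : Subgroup (W j) := ⁅(⊤ : Subgroup (W j)), (χ j).ker⁆
        have hMK : M ≤ K := Subgroup.commutator_le.2 fun w _ e he => by
          obtain ⟨x, hx⟩ := hπs j w
          have hy : Pi.mulSingle j e ∈ (prodSign χ).ker := by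
            rw [MonoidHom.mem_ker, prodSign_mulSingle]; exact he
          refine ⟨⁅x, ⟨_, hy⟩⁆, hcomm _ _, ?_⟩
          funext i
          show (⁅(x : ∀ k, W k), Pi.mulSingle j e⁆) i = Pi.mulSingle j ⁅w, e⁆ i
          rcases eq_or_ne i j with rfl | hij
          · rw [Pi.mulSingle_eq_same, ← hx]
            simp [π, commutatorElement_def]
          · simp [commutatorElement_def, Pi.mulSingle_eq_of_ne hij]
        have hM : M ≠ ⊥ := by
          intro hbot
          have hle : (χ j).ker ≤ Subgroup.center (W j) := fun e he => Subgroup.mem_center_iff.2 fun w => by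
            have h1 : ⁅w, e⁆ ∈ M := Subgroup.commutator_mem_commutator (Subgroup.mem_top w) he
            rw [hbot, Subgroup.mem_bot] at h1
            exact commutatorElement_eq_one_iff_commute.1 h1
          have h1 := (χ j).ker.card_mul_index
          rw [Subgroup.index_ker, MonoidHom.range_eq_top.2 ((hbl j).surj), Subgroup.card_top, (hbl j).card,
            Nat.card_eq_fintype_card (α := ℤˣ), Fintype.card_units_int] at h1
          have h2 := Subgroup.card_le_of_le hle
          rw [(hbl j).center_card] at h2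
          have h3 : 8 ≤ 2 ^ (2 ^ r j - 1) := le_trans (by norm_num : 8 ≤ 2 ^ 3)
            (Nat.pow_le_pow_right two_pos (by
              have := Nat.pow_le_pow_right two_pos (hr j)
              omega))
          omega
        exact hMK (center_le_normal (hp j) (hbl j).center_card M hM
          (hcen j (Subgroup.mem_map_of_mem (π j) hb)))
      obtain ⟨a, ha, hab⟩ : (b : ∀ j, W j) ∈ A.map (prodSign χ).ker.subtype :=
        Subgroup.pi_mem_of_mulSingle_mem _ hj
      exact (Subtype.ext hab : a = b) ▸ ha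
    exact (Subgroup.eq_bot_iff_forall _).1 hi b ⟨hmem, hb⟩
  have hsplit : ∀ j, A.map (π j) ≤ Subgroup.center (W j) ∨ B.map (π j) ≤ Subgroup.center (W j) := by
    intro j
    refine (hbl j).split _ _ ((normal_of_factor hc hsup).map _ (hπs j))
      ((normal_of_factor (fun b hb a ha => (hc a ha b hb).symm) (sup_comm A B ▸ hsup)).map _ (hπs j))
      ?_ ?_
    · rintro _ ⟨a, ha, rfl⟩ _ ⟨b, hb', rfl⟩
      rw [← map_mul, ← map_mul, hc a ha b hb']
    · rw [← Subgroup.map_sup, hsup, Subgroup.map_top_of_surjective _ (hπs j)]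
  by_cases h1 : ∀ j, B.map (π j) ≤ Subgroup.center (W j)
  · exact hB (key A B hc hsup hi h1)
  by_cases h2 : ∀ j, A.map (π j) ≤ Subgroup.center (W j)
  · exact hA (key B A (fun b hb' a ha => (hc a ha b hb').symm) (sup_comm A B ▸ hsup)
      (inf_comm A B ▸ hi) h2)
  push Not at h1 h2
  obtain ⟨j, hj⟩ := h1
  obtain ⟨k, hk⟩ := h2
  classical
  let S : Finset (Fin s) := Finset.univ.filter fun l => A.map (π l) ≤ Subgroup.center (W l)
  have hjS : j ∈ S := by
    simp only [S, Finset.mem_filter, Finset.mem_univ, true_and]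
    exact (hsplit j).resolve_right hj
  have hkS : k ∉ S := by simp [S, hk]
  obtain ⟨u, hu⟩ := (hbl j).surj (-1)
  obtain ⟨v, hv⟩ := (hbl k).surj (-1)
  have hp' : Pi.mulSingle j u * Pi.mulSingle k v ∈ (prodSign χ).ker := by
    rw [MonoidHom.mem_ker, map_mul, prodSign_mulSingle, prodSign_mulSingle, hu, hv]; rfl
  obtain ⟨a, ha, b, hb', hab⟩ := exists_mul_of_factor hc hsup ⟨_, hp'⟩
  have hA1 : ∏ l ∈ S, χ l (a.1 l) = 1 := Finset.prod_eq_one fun l hl => by
    simp only [S, Finset.mem_filter, Finset.mem_univ, true_and] at hl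
    exact (hbl l).center_even (hr l) (hl (Subgroup.mem_map_of_mem (π l) ha))
  have hB1 : ∏ l ∈ S, χ l (b.1 l) = 1 := by
    have h := b.2
    rw [MonoidHom.mem_ker, prodSign_apply, ← Finset.prod_mul_prod_compl S] at h
    rwa [Finset.prod_eq_one (s := Sᶜ) (fun l hl => ?_), mul_one] at h
    have hl' : ¬ A.map (π l) ≤ Subgroup.center (W l) := by simpa [S] using hl
    exact (hbl l).center_even (hr l)
      ((hsplit l).resolve_left hl' (Subgroup.mem_map_of_mem (π l) hb'))
  have hprod : ∏ l ∈ S, χ l (a.1 l * b.1 l) = 1 := by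
    simp_rw [map_mul]
    rw [Finset.prod_mul_distrib, hA1, hB1, one_mul]
  have hval : ∀ l, a.1 l * b.1 l = (Pi.mulSingle j u * Pi.mulSingle k v : ∀ i, W i) l := fun l =>
    congrFun (congrArg Subtype.val hab) l
  rw [Finset.prod_eq_single j] at hprod
  · rw [hval, Pi.mul_apply, Pi.mulSingle_eq_same,
      Pi.mulSingle_eq_of_ne (fun h : j = k => hkS (h ▸ hjS)), mul_one, hu] at hprod
    exact absurd hprod (by decide)
  · intro l hl hlj
    rw [hval, Pi.mul_apply, Pi.mulSingle_eq_of_ne hlj,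
      Pi.mulSingle_eq_of_ne (fun h : l = k => hkS (h ▸ hl)), mul_one, map_one]
  · exact fun h => absurd hjS h

theorem dec_pi (hb : ∀ j, IsBlock (r j) (χ j)) (hs : 2 ≤ s) : Dec (∀ j, W j) := by
  have hne : ∀ j : Fin s, ∃ t : W j, t ≠ 1 := fun j => by
    obtain ⟨t, ht⟩ := (hb j).surj (-1)
    exact ⟨t, fun h1 => by rw [h1, map_one] at ht; exact absurd ht (by decide)⟩
  let j₀ : Fin s := ⟨0, by omega⟩
  let j₁ : Fin s := ⟨1, by omega⟩
  have hj : j₁ ≠ j₀ := fun h => by have := congrArg Fin.val h; simp [j₀, j₁] at this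
  let e : W j₀ →* ∀ j, W j := MonoidHom.mulSingle W j₀
  refine ⟨e.range, (Pi.evalMonoidHom W j₀).ker, ?_, ?_, ?_, ?_, ?_⟩
  · obtain ⟨t, ht⟩ := hne j₀
    intro h
    have : e t ∈ (⊥ : Subgroup (∀ j, W j)) := h ▸ ⟨t, rfl⟩
    exact ht (by simpa [e] using congrFun (Subgroup.mem_bot.1 this) j₀)
  · obtain ⟨t, ht⟩ := hne j₁
    intro h
    have hm : Pi.mulSingle j₁ t ∈ (Pi.evalMonoidHom W j₀).ker := by
      simp [MonoidHom.mem_ker, Pi.mulSingle_eq_of_ne hj.symm]
    rw [h, Subgroup.mem_bot] at hm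
    exact ht (by simpa using congrFun hm j₁)
  · rintro _ ⟨t, rfl⟩ b hb'
    funext l
    rcases eq_or_ne l j₀ with rfl | hl
    · simp [e, show b j₀ = 1 from hb']
    · simp [e, Pi.mulSingle_eq_of_ne hl]
  · refine (Subgroup.eq_bot_iff_forall _).2 ?_
    rintro _ ⟨⟨t, rfl⟩, h⟩
    have ht : t = 1 := by simpa [e] using h
    rw [ht, map_one]
  · refine eq_top_iff.2 fun x _ => ?_
    rw [← mul_inv_cancel_left (e (x j₀)) x]
    refine mul_mem (Subgroup.mem_sup_left ⟨_, rfl⟩) (Subgroup.mem_sup_right ?_)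
    simp [MonoidHom.mem_ker, e]

theorem not_dec_pi_one (hb : ∀ j, IsBlock (r j) (χ j)) (hs : s = 1) : ¬ Dec (∀ j, W j) := by
  subst hs
  have hfin : Finite (W 0) := Nat.finite_of_card_ne_zero (by rw [(hb 0).card]; simp)
  exact fun h => not_dec_of_center (IsPGroup.of_card (hb 0).card) (hb 0).center_card
    (dec_congr (MulEquiv.piUnique W) h)

/-- For a single block of degree 4 the sign kernel is a four group. -/
theorem dec_prod_two (hb : ∀ j, IsBlock (r j) (χ j)) (hs : s = 1) (hr : ∀ j, r j = 2) :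
    Dec (prodSign χ).ker := by
  subst hs
  have hfin : Finite (∀ j, W j) := Nat.finite_of_card_ne_zero (by
    rw [Nat.card_pi]; exact Finset.prod_ne_zero_iff.2 fun j _ => by rw [(hb j).card]; simp)
  have hcard : Nat.card (prodSign χ).ker = 4 := by
    have hsurj : Function.Surjective (prodSign χ) := fun u => by
      obtain ⟨t, rfl⟩ := (hb 0).surj u
      exact ⟨Pi.mulSingle 0 t, prodSign_mulSingle 0 t⟩
    have h := (prodSign χ).ker.card_mul_index
    rw [Subgroup.index_ker, MonoidHom.range_eq_top.2 hsurj, Subgroup.card_top, Nat.card_pi,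
      Fin.prod_univ_one, (hb 0).card, hr 0, Nat.card_eq_fintype_card (α := ℤˣ),
      Fintype.card_units_int] at h
    omega
  have hsq : ∀ x : (prodSign χ).ker, x * x = 1 := fun x => Subtype.ext (funext fun j => by
    obtain rfl := Subsingleton.elim j 0
    refine (hb 0).ker_sq (hr 0) _ ?_
    have hx := x.2
    rw [MonoidHom.mem_ker, prodSign_apply, Fin.prod_univ_one] at hx
    exact hx)
  have hinv : ∀ x : (prodSign χ).ker, x⁻¹ = x := fun x => inv_eq_of_mul_eq_one_right (hsq x)
  have hcomm : ∀ x y : (prodSign χ).ker, x * y = y * x := fun x y => by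
    rw [← hinv (x * y), mul_inv_rev, hinv, hinv]
  have hord : ∀ x : (prodSign χ).ker, x ≠ 1 → Nat.card (Subgroup.zpowers x) = 2 := fun x hx => by
    rw [Nat.card_zpowers]
    exact orderOf_eq_prime (by rw [pow_two, hsq]) hx
  obtain ⟨x, hx⟩ : ∃ x : (prodSign χ).ker, x ≠ 1 := by
    by_contra h
    push Not at h
    have : Subsingleton (prodSign χ).ker := ⟨fun a b => (h a).trans (h b).symm⟩
    rw [Nat.card_eq_one_iff_unique.2 ⟨this, ⟨1⟩⟩] at hcard
    omega
  obtain ⟨y, hy⟩ : ∃ y, y ∉ Subgroup.zpowers x := by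
    by_contra h
    push Not at h
    have : Subgroup.zpowers x = ⊤ := eq_top_iff.2 fun z _ => h z
    have h' := hord x hx
    rw [this, Subgroup.card_top, hcard] at h'
    omega
  have hy1 : y ≠ 1 := fun h => hy (h ▸ one_mem _)
  refine ⟨Subgroup.zpowers x, Subgroup.zpowers y, Subgroup.zpowers_ne_bot.2 hx,
    Subgroup.zpowers_ne_bot.2 hy1, fun a _ b _ => hcomm a b, ?_, ?_⟩
  · refine (Subgroup.eq_bot_iff_forall _).2 fun z hz => ?_
    by_contra hz1
    have e1 : Subgroup.zpowers z = Subgroup.zpowers y :=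
      Subgroup.eq_of_le_of_card_ge (Subgroup.zpowers_le.2 hz.2) (by rw [hord z hz1, hord y hy1])
    exact hy ((e1 ▸ Subgroup.zpowers_le.2 hz.1 : Subgroup.zpowers y ≤ Subgroup.zpowers x)
      (Subgroup.mem_zpowers y))
  · refine Subgroup.eq_top_of_card_eq _ ?_
    set U := Subgroup.zpowers x ⊔ Subgroup.zpowers y
    have h2 : Nat.card (Subgroup.zpowers x) ∣ Nat.card U := Subgroup.card_dvd_of_le le_sup_left
    have h4 : Nat.card U ∣ Nat.card (prodSign χ).ker := U.card_subgroup_dvd_card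
    have hne : Subgroup.zpowers x ≠ U := fun h => hy (h.symm ▸ Subgroup.mem_sup_right (Subgroup.mem_zpowers y))
    have hlt : 2 < Nat.card U := by
      have := Subgroup.card_le_of_le (le_sup_left : Subgroup.zpowers x ≤ U)
      rw [hord x hx] at this
      rcases this.lt_or_eq with h | h
      · exact h
      · exact absurd (Subgroup.eq_of_le_of_card_ge le_sup_left (by rw [hord x hx, h])) hne
    rw [hcard] at h4 ⊢
    have := Nat.le_of_dvd (by norm_num) h4
    interval_cases (Nat.card U) <;> omega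

end product

end CfsgLib.AltSylowDecomp
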